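import Mathlib
import Groth.Prelude.Def_DCoh4
import Groth.Agent.Lib.Helper1.IdealModL
import Groth.Agent.Lib.Helper5.BC.PullTenNat
import Groth.Agent.Lib.Helper5.BC.AffFlat
import Groth.Agent.Lib.Helper5.BC.ClassicFlatBC
import Groth.Agent.Lib.Helper5.BC.LTenCongr
import Groth.Agent.Lib.Helper5.FMId.LpullId
import Groth.Agent.Lib.Helper5.ProjF.ClDer
import Groth.Agent.Lib.Helper5.RHomQC.UnitTen
import Groth.Agent.Lib.Helper5.RpushPerf.ConcSh
import Groth.Agent.Lib.Helper5.RpushCl.RpushClassic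
import Groth.Agent.Lib.Helper5.Perf.Pull
import Groth.Agent.Lib.Helper5.KFlatSite2.TorAmpIff

/-!
# `i₁_* O ⊗^L i₂_* O ≅ LΔ^* ((i₁ × i₂)_* O)` (helper5)

An abstract form: `X` with a "product" `P`, projections `p₁ p₂ : P ⟶ X` and a common section `Δ`,
closed immersions `i₁ i₂` into `X`, and the two cartesian squares
`Z₁ = Y₁ ×_X P` (along `p₁`, flat) and `W = Y₂ ×_X Z₁` (along `r = d₁ ≫ p₂`, flat).
-/
set_option autoImplicit false
set_option linter.unusedSectionVars false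
set_option linter.unusedVariables false
set_option linter.style.haveILetI false
universe u
open CategoryTheory CategoryTheory.Limits AlgebraicGeometry
attribute [local instance] HasDerivedCategory.standard

namespace Groth.Agent.Lib.Helper5.DiagTen

open Groth.Agent.Lib.Helper5.BC Groth.Agent.Lib.Helper5.ProjF

section Push

variable {X Y : Scheme.{u}} (f : X ⟶ Y) [IsClosedImmersion f]

/-- `Rf_* (M[0]) ≅ (f_* M)[0]` for a closed immersion -/
noncomputable def rpushInD (M : X.Modules) :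
    (DCoh.Rpush f).obj (DCoh.inD X M) ≅ DCoh.inD Y ((Scheme.Modules.pushforward f).obj M) :=
  (rpushIsoMapD f).app (DCoh.inD X M) ≪≫
    ((Scheme.Modules.pushforward f).mapDerivedCategorySingleFunctor 0).app M

end Push

section BCO

variable {X Y X' Y' : Scheme.{u}} {f : X ⟶ Y} {g : Y' ⟶ Y} {f' : X' ⟶ Y'} {g' : X' ⟶ X}

/-- flat base change of the structure sheaf of a closed subscheme, in the derived category -/
theorem nonempty_bcO (hsq : IsPullback g' f' f g) [IsClosedImmersion f] [Flat g] :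
    Nonempty ((DCoh.Lpull g).obj
        (DCoh.inD Y ((Scheme.Modules.pushforward f).obj (Coh.structureModule X))) ≅
      (DCoh.Rpush f').obj (DCoh.inD X' (Coh.structureModule X'))) := by
  haveI : Flat g' := MorphismProperty.of_isPullback (P := @Flat) hsq.flip inferInstance
  haveI hθ : IsIso ((theta hsq.w).app (DCoh.inD X (Coh.structureModule X))) :=
    isIso_theta_of_flat hsq (DCoh.inD X (Coh.structureModule X))
      (Groth.Agent.Lib.Helper5.RpushClassic.isQCohD_inD (Coh.structureModule X))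
  exact ⟨(DCoh.Lpull g).mapIso (rpushInD f (Coh.structureModule X)).symm ≪≫
    asIso ((theta hsq.w).app (DCoh.inD X (Coh.structureModule X))) ≪≫
    (DCoh.Rpush f').mapIso (lpullInDIso g' (Coh.structureModule X) ≪≫
      (DerivedCategory.singleFunctor X'.Modules 0).mapIso
        (Groth.Agent.Lib.Helper5.PerfPull.unitIso g'))⟩

end BCO

section Main

open Groth.Agent.Lib.Helper5.PullTenNat Groth.Agent.Lib.Helper5.ProjF3

variable {X P Y₁ Y₂ Z₁ W : Scheme.{u}} (p₁ p₂ : P ⟶ X) (Δ : X ⟶ P)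
  (h₁ : Δ ≫ p₁ = 𝟙 X) (h₂ : Δ ≫ p₂ = 𝟙 X)
  (i₁ : Y₁ ⟶ X) (i₂ : Y₂ ⟶ X) [IsClosedImmersion i₁] [IsClosedImmersion i₂]
  (q₁ : Z₁ ⟶ Y₁) (d₁ : Z₁ ⟶ P) (hsq1 : IsPullback q₁ d₁ i₁ p₁) [Flat p₁]
  (r : Z₁ ⟶ X) (hr : d₁ ≫ p₂ = r) [Flat r]
  (q₂ : W ⟶ Y₂) (e : W ⟶ Z₁) (hsq2 : IsPullback q₂ e i₂ r)

include h₁ h₂ hsq1 hr hsq2 in
/-- **the derived tensor product of two closed subschemes is the derived restriction to the
diagonal of their exterior product**, abstract form -/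
theorem nonempty_diagTen
    [DCoh.HasLTensorMod ((Scheme.Modules.pushforward i₂).obj (Coh.structureModule Y₂))]
    [DCoh.HasLpull Δ] :
    Nonempty ((DCoh.LTensorMod ((Scheme.Modules.pushforward i₂).obj (Coh.structureModule Y₂))).obj
        (DCoh.inD X ((Scheme.Modules.pushforward i₁).obj (Coh.structureModule Y₁))) ≅
      (DCoh.Lpull Δ).obj (DCoh.inD P
        ((Scheme.Modules.pushforward (e ≫ d₁)).obj (Coh.structureModule W)))) := by
  haveI : IsClosedImmersion d₁ := MorphismProperty.of_isPullback hsq1 inferInstance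
  haveI : IsClosedImmersion e := MorphismProperty.of_isPullback hsq2 inferInstance
  let A : X.Modules := (Scheme.Modules.pushforward i₁).obj (Coh.structureModule Y₁)
  let B : X.Modules := (Scheme.Modules.pushforward i₂).obj (Coh.structureModule Y₂)
  obtain ⟨G, hG, -, ⟨eG⟩⟩ := Groth.Agent.Lib.Helper5.Pure.exists_kflat_repr (DCoh.inD X B)
  let N : CochainComplex P.Modules ℤ := (pC p₂).obj G
  have hN : DCoh.IsKFlat N := Groth.Agent.Lib.Helper5.KFlatPull.isKFlat_pullback p₂ G hG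
  let ΔN : CochainComplex X.Modules ℤ := (pC Δ).obj N
  let dN : CochainComplex Z₁.Modules ℤ := (pC d₁).obj N
  let sB : CochainComplex X.Modules ℤ := Groth.Agent.Lib.Helper5.RpushPerf.sCx B
  haveI : DCoh.HasLTensorCx G := Groth.Agent.Lib.Helper5.LTenAll.hasLTensorCx G
  haveI : DCoh.HasLTensorCx N := Groth.Agent.Lib.Helper5.LTenAll.hasLTensorCx N
  haveI : DCoh.HasLTensorCx ΔN := Groth.Agent.Lib.Helper5.LTenAll.hasLTensorCx ΔN
  haveI : DCoh.HasLTensorCx dN := Groth.Agent.Lib.Helper5.LTenAll.hasLTensorCx dN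
  haveI : DCoh.HasLTensorCx sB := Groth.Agent.Lib.Helper5.LTenAll.hasLTensorCx sB
  haveI : DCoh.HasLTensorCx (fL Δ N) := Groth.Agent.Lib.Helper5.LTenAll.hasLTensorCx ΔN
  -- the left hand side
  obtain ⟨l1⟩ := Groth.Agent.Lib.Helper5.RpushPerf.nonempty_ltensorMod_iso B (DCoh.inD X A)
  have eB : DerivedCategory.Q.obj sB ≅ DerivedCategory.Q.obj G :=
    ((DerivedCategory.singleFunctorIsoCompQ X.Modules 0).app B).symm ≪≫ eG.symm
  obtain ⟨l2⟩ := Groth.Agent.Lib.Helper5.LTenCongr.nonempty_ltensor_iso_of_iso eB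
  -- pulling back along the diagonal
  haveI : IsIso ((lpullβ Δ).app N) := isIso_lpullβ_app Δ N hN
  haveI : IsIso ((lpullβ p₂).app G) := isIso_lpullβ_app p₂ G hG
  haveI : IsIso ((lpullβ d₁).app N) := isIso_lpullβ_app d₁ N hN
  have t3 : DerivedCategory.Q.obj ΔN ≅ DerivedCategory.Q.obj G :=
    (asIso ((lpullβ Δ).app N)).symm ≪≫
      (DCoh.Lpull Δ).mapIso (asIso ((lpullβ p₂).app G)).symm ≪≫
      (Groth.Agent.Lib.Helper5.FMId.lpullSection Δ p₂ h₂).app (DerivedCategory.Q.obj G)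
  obtain ⟨l3⟩ := Groth.Agent.Lib.Helper5.LTenCongr.nonempty_ltensor_iso_of_iso t3
  let T : DCoh.D P := (DCoh.LTensorCx N).obj ((DCoh.Lpull p₁).obj (DCoh.inD X A))
  have t1 : (DCoh.Lpull Δ).obj T ≅
      (DCoh.LTensorCx ΔN).obj ((DCoh.Lpull Δ).obj ((DCoh.Lpull p₁).obj (DCoh.inD X A))) :=
    (lpullTenIso Δ N hN).app ((DCoh.Lpull p₁).obj (DCoh.inD X A))
  have t2 : (DCoh.Lpull Δ).obj ((DCoh.Lpull p₁).obj (DCoh.inD X A)) ≅ DCoh.inD X A :=
    (Groth.Agent.Lib.Helper5.FMId.lpullSection Δ p₁ h₁).app (DCoh.inD X A)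
  -- the exterior product
  obtain ⟨b1⟩ := nonempty_bcO hsq1
  obtain ⟨pf⟩ := nonempty_projIso_closed d₁ N hN (DCoh.inD Z₁ (Coh.structureModule Z₁))
  have u1 : (DCoh.LTensorCx dN).obj (DCoh.inD Z₁ (Coh.structureModule Z₁)) ≅
      DerivedCategory.Q.obj dN := Groth.Agent.Lib.Helper5.RHomQC.ltensorUnitIso dN
  have u2 : DerivedCategory.Q.obj dN ≅ (DCoh.Lpull r).obj (DCoh.inD X B) :=
    (asIso ((lpullβ d₁).app N)).symm ≪≫
      (DCoh.Lpull d₁).mapIso (asIso ((lpullβ p₂).app G)).symm ≪≫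
      (cL d₁ p₂).app (DerivedCategory.Q.obj G) ≪≫ (lcongr hr).app (DerivedCategory.Q.obj G) ≪≫
      (DCoh.Lpull r).mapIso eG
  obtain ⟨b2⟩ := nonempty_bcO hsq2
  have v1 : (DCoh.Rpush d₁).obj ((DCoh.Rpush e).obj (DCoh.inD W (Coh.structureModule W))) ≅
      DCoh.inD P ((Scheme.Modules.pushforward (e ≫ d₁)).obj (Coh.structureModule W)) :=
    (DCoh.Rpush d₁).mapIso (rpushInD e (Coh.structureModule W)) ≪≫
      rpushInD d₁ ((Scheme.Modules.pushforward e).obj (Coh.structureModule W)) ≪≫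
      (DerivedCategory.singleFunctor P.Modules 0).mapIso
        ((Scheme.Modules.pushforwardComp e d₁).app (Coh.structureModule W))
  have tT : T ≅ DCoh.inD P
      ((Scheme.Modules.pushforward (e ≫ d₁)).obj (Coh.structureModule W)) :=
    (DCoh.LTensorCx N).mapIso b1 ≪≫ pf ≪≫
      (DCoh.Rpush d₁).mapIso (u1 ≪≫ u2 ≪≫ b2) ≪≫ v1
  exact ⟨l1 ≪≫ l2.app (DCoh.inD X A) ≪≫ (l3.app (DCoh.inD X A)).symm ≪≫
    (DCoh.LTensorCx ΔN).mapIso t2.symm ≪≫ t1.symm ≪≫ (DCoh.Lpull Δ).mapIso tT⟩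

end Main

end Groth.Agent.Lib.Helper5.DiagTen
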